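import Mathlib
import Cfsg.Agent.Lib.Helper32.SLMD.Defs2
import Cfsg.Agent.Lib.Helper3.EquivChar

/-!
# SLMD (S2332, coordinator helper32), module SLMD-[G-ADDIND] (helper51)

Maschke induction for additive functionals of the character.
-/

set_option autoImplicit false
set_option linter.unusedSectionVars false
set_option linter.unusedVariables false

namespace Cfsg.Agent.Lib.Helper51.SLMD

open Matrix Cfsg.Agent.Lib.Helper41 Cfsg.Agent.Lib.Helper39 Module
open scoped LinearAlgebra.Projectivization
open Cfsg.Agent.Lib.Helper3 Representation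

universe u v

theorem additive_char_induction_aux {G : Type u} [Group G] [Finite G] (L : (G → ℂ) →+ ℂ)
    (S : AddSubmonoid ℂ)
    (hirr : ∀ (W : Type v) [AddCommGroup W] [Module ℂ W] [FiniteDimensional ℂ W]
      (R : Representation ℂ G W), R.IsIrreducible → L R.character ∈ S) (n : ℕ) :
    ∀ (V : Type v) [AddCommGroup V] [Module ℂ V] [FiniteDimensional ℂ V]
      (ρ : Representation ℂ G V), finrank ℂ V = n → L ρ.character ∈ S := by
  induction n using Nat.strong_induction_on with
  | _ n ih =>
  intro V _ _ _ ρ hn
  rcases Nat.eq_zero_or_pos n with h0 | hpos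
  · have hV : Subsingleton V := Module.finrank_zero_iff.mp (hn.trans h0)
    have h0' : ρ.character = 0 := by
      funext g
      have h1 : ρ g = 0 := Subsingleton.elim _ _
      simp only [Representation.character, h1, map_zero, Pi.zero_apply]
    rw [h0', map_zero]
    exact S.zero_mem
  · have hVnt : Nontrivial V := Module.finrank_pos_iff.mp (hn ▸ hpos)
    obtain ⟨S₁, S₂, hS, hSS⟩ := exists_irreducible_subrep_isCompl ρ
    have e1 := prodEquivOfIsCompl hSS
    have hχρ : ρ.character = S₁.toRepresentation.character + S₂.toRepresentation.character := by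
      rw [← character_prod', char_iso e1]
    have hdim : finrank ℂ S₂.toSubmodule < n := by
      have h1 : finrank ℂ (S₁.toSubmodule × S₂.toSubmodule) = finrank ℂ V :=
        e1.toLinearEquiv.finrank_eq
      rw [Module.finrank_prod] at h1
      have hSpos := finrank_pos_of_isIrreducible S₁.toRepresentation
      omega
    rw [hχρ, map_add]
    exact S.add_mem (hirr _ S₁.toRepresentation hS)
      (ih _ hdim _ S₂.toRepresentation rfl)

/-- [G-ADDIND] -/
theorem additive_char_induction {G : Type u} [Group G] [Finite G] (L : (G → ℂ) →+ ℂ)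
    (S : AddSubmonoid ℂ)
    (hirr : ∀ (W : Type v) [AddCommGroup W] [Module ℂ W] [FiniteDimensional ℂ W]
      (R : Representation ℂ G W), R.IsIrreducible → L R.character ∈ S)
    (V : Type v) [AddCommGroup V] [Module ℂ V] [FiniteDimensional ℂ V]
    (ρ : Representation ℂ G V) : L ρ.character ∈ S :=
  additive_char_induction_aux L S hirr _ V ρ rfl

end Cfsg.Agent.Lib.Helper51.SLMD
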